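import Groth.Agent.Lib.Helper23.LocConst.LB
import Mathlib.RingTheory.Finiteness.Prod
import Mathlib.RingTheory.Finiteness.Basic

/-!
# Extensions of locally constant sheaves of modules (elementary form)
-/

namespace Groth.Agent.Lib.Helper23.LocConst

universe w v u
open CategoryTheory Opposite

variable {C : Type u} [Category.{v} C] {J : GrothendieckTopology C}
variable {Λ : Type w} [CommRing Λ]

variable {F E G : Sheaf J (ModuleCat.{w} Λ)} (i : F ⟶ E) (p : E ⟶ G) {U : C}
  {M N : Type w} [AddCommGroup M] [Module Λ M] [AddCommGroup N] [Module Λ N]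
  {α : M →ₗ[Λ] Sec F U} {β : N →ₗ[Λ] Sec G U}

theorem LB.extension_core (hzero : i ≫ p = 0)
    (hi : ∀ V : C, Function.Injective (app i V))
    (hex : ∀ (V : C) (e : Sec E V), app p V e = 0 → ∃ f, app i V f = e)
    (hα : LB J F U α) (hβ : LB J G U β) [Module.Finite Λ M]
    {k l : ℕ} (πN : (Fin k → Λ) →ₗ[Λ] N) (rr : (Fin l → Λ) →ₗ[Λ] (Fin k → Λ))
    (hπN : Function.Surjective πN) (hexact : Function.Exact rr πN)
    (ε : (Fin k → Λ) →ₗ[Λ] Sec E U) (hε : ∀ c, app p U (ε c) = β (πN c))
    (μL : (Fin l → Λ) →ₗ[Λ] M) (hμ : ∀ a, ε (rr a) = app i U (α (μL a))) :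
    ∃ (P : Type w) (_ : AddCommGroup P) (_ : Module Λ P) (_ : Module.Finite Λ P)
      (γ : P →ₗ[Λ] Sec E U), LB J E U γ := by
  have hzero' : ∀ (V : C) (f : Sec F V), app p V (app i V f) = 0 := by
    intro V f
    rw [← app_comp, hzero, app_zero]
  let Φ : M × (Fin k → Λ) →ₗ[Λ] Sec E U := ((app i U).comp α).coprod ε
  have hΦ : ∀ m c, Φ (m, c) = app i U (α m) + ε c := fun m c => by
    simp [Φ, LinearMap.coprod_apply]
  let ρ : (Fin l → Λ) →ₗ[Λ] M × (Fin k → Λ) := (-μL).prod rr
  have hρ : ∀ a, ρ a = (-(μL a), rr a) := fun a => rfl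
  have hR : LinearMap.range ρ ≤ LinearMap.ker Φ := by
    rintro _ ⟨a, rfl⟩
    rw [LinearMap.mem_ker, hρ, hΦ, hμ, map_neg, map_neg, neg_add_cancel]
  let γ : (M × (Fin k → Λ)) ⧸ LinearMap.range ρ →ₗ[Λ] Sec E U := (LinearMap.range ρ).liftQ Φ hR
  have hγ : ∀ m c, γ ((LinearMap.range ρ).mkQ (m, c)) = app i U (α m) + ε c := fun m c => hΦ m c
  refine ⟨(M × (Fin k → Λ)) ⧸ LinearMap.range ρ, inferInstance, inferInstance, inferInstance, γ,
    ?_, ?_⟩
  · -- local injectivity
    intro V g x hx
    obtain ⟨⟨m, c⟩, rfl⟩ := (LinearMap.range ρ).mkQ_surjective x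
    have h1 : res G g (β (πN c)) = 0 := by
      have := congrArg (app p V) hx
      rw [map_zero, app_res, hγ, map_add, hzero', zero_add, hε] at this
      exact this
    apply Loc.bind
    refine (hβ.inj g (πN c) h1).mono ?_
    intro W h hc
    obtain ⟨a, ha⟩ := (hexact c).1 hc
    have hcls : (LinearMap.range ρ).mkQ (m, c) = (LinearMap.range ρ).mkQ (m + μL a, 0) := by
      rw [Submodule.mkQ_apply, Submodule.mkQ_apply, Submodule.Quotient.eq]
      refine ⟨a, ?_⟩
      rw [hρ, ha]
      ext <;> simp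
    have h2 : res F (h ≫ g) (α (m + μL a)) = 0 := by
      apply hi W
      rw [map_zero, app_res]
      have h3 := hγ (m + μL a) 0
      rw [map_zero, add_zero] at h3
      rw [← h3, ← hcls, res_comp, hx, map_zero]
    refine (hα.inj (h ≫ g) (m + μL a) h2).mono ?_
    intro W' h' h0
    rw [hcls, h0]
    exact (Submodule.Quotient.mk_eq_zero _).2 (zero_mem _)
  · -- local surjectivity
    intro V g e
    apply Loc.bind
    refine (hβ.surj g (app p V e)).mono ?_
    rintro W h ⟨n, hn⟩
    obtain ⟨c, rfl⟩ := hπN n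
    have hd : app p W (res E h e - res E (h ≫ g) (ε c)) = 0 := by
      rw [map_sub, app_res, app_res, hε, hn, sub_self]
    obtain ⟨f, hf⟩ := hex W _ hd
    refine (hα.surj (h ≫ g) f).mono ?_
    rintro W' h' ⟨m, hm⟩
    refine ⟨(LinearMap.range ρ).mkQ (m, c), ?_⟩
    rw [hγ, map_add, ← app_res, Category.assoc, hm, app_res, hf, map_sub, ← res_comp, ← res_comp]
    abel

/-- Two linear maps out of `Fin k → Λ` agreeing on the standard basis are equal. -/
lemma linearMap_pi_ext {k : ℕ} {T : Type*} [AddCommGroup T] [Module Λ T]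
    {f g : (Fin k → Λ) →ₗ[Λ] T} (h : ∀ a : Fin k, f (Pi.single a 1) = g (Pi.single a 1)) :
    f = g := by
  refine LinearMap.pi_ext' (fun a => LinearMap.ext_ring ?_)
  simpa [LinearMap.comp_apply, LinearMap.single_apply] using h a

theorem LB.extension (hzero : i ≫ p = 0)
    (hi : ∀ V : C, Function.Injective (app i V))
    (hex : ∀ (V : C) (e : Sec E V), app p V e = 0 → ∃ f, app i V f = e)
    (hp : ∀ (V : C) (t : Sec G V), Loc J V (fun W h => ∃ e : Sec E W, app p W e = res G h t))
    [Module.Finite Λ M] [Module.FinitePresentation Λ N]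
    (hα : LB J F U α) (hβ : LB J G U β) :
    Loc J U (fun W _ => ∃ (P : Type w) (_ : AddCommGroup P) (_ : Module Λ P)
      (_ : Module.Finite Λ P) (γ : P →ₗ[Λ] Sec E W), LB J E W γ) := by
  classical
  obtain ⟨k, l, πN, rr, hπN, hexact⟩ := Module.FinitePresentation.exists_fin' Λ N
  have h1 : Loc J U (fun W h => ∀ a : Fin k, ∃ e : Sec E W,
      app p W e = res G h (β (πN (Pi.single a 1)))) :=
    Loc.forall_fin (fun a => hp U _)
  apply Loc.bind
  refine h1.mono ?_
  intro W h he
  choose e he using he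
  let ε : (Fin k → Λ) →ₗ[Λ] Sec E W := Fintype.linearCombination Λ e
  have hε : ∀ c, app p W (ε c) = res G h (β (πN c)) := by
    intro c
    have : (app p W).comp ε = ((res G h).comp β).comp πN := by
      apply linearMap_pi_ext
      intro a
      simp only [LinearMap.comp_apply, ε, Fintype.linearCombination_apply_single, one_smul]
      exact he a
    exact LinearMap.congr_fun this c
  have h2 : ∀ j : Fin l, ∃ f : Sec F W, app i W f = ε (rr (Pi.single j 1)) := by
    intro j
    apply hex
    rw [hε, hexact.apply_apply_eq_zero, map_zero, map_zero]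
  choose f hf using h2
  have h3 : Loc J W (fun W' h' => ∀ j : Fin l, ∃ m : M,
      res F (h' ≫ h) (α m) = res F h' (f j)) :=
    Loc.forall_fin (fun j => hα.surj h (f j))
  refine h3.mono ?_
  intro W' h' hm
  choose μ hμ using hm
  have hα' := hα.restrict (h' ≫ h)
  have hβ' := hβ.restrict (h' ≫ h)
  let ε' : (Fin k → Λ) →ₗ[Λ] Sec E W' := (res E h').comp ε
  let μL : (Fin l → Λ) →ₗ[Λ] M := Fintype.linearCombination Λ μ
  refine LB.extension_core i p hzero hi hex hα' hβ' πN rr hπN hexact ε' ?_ μL ?_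
  · intro c
    simp only [ε', LinearMap.comp_apply]
    rw [app_res, hε, ← res_comp]
  · intro a
    have : ε'.comp rr = ((app i W').comp ((res F (h' ≫ h)).comp α)).comp μL := by
      apply linearMap_pi_ext
      intro j
      simp only [LinearMap.comp_apply, ε', μL, Fintype.linearCombination_apply_single, one_smul]
      rw [← hf, ← app_res, hμ]
    exact LinearMap.congr_fun this a

end Groth.Agent.Lib.Helper23.LocConst
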