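import Groth.Agent.Lib.Helper23.LocConst.LB

/-!
# Kernels and cokernels of morphisms between locally constant sheaves (elementary form)
-/

namespace Groth.Agent.Lib.Helper23.LocConst

universe w v u
open CategoryTheory Opposite

variable {C : Type u} [Category.{v} C] {J : GrothendieckTopology C}
variable {Λ : Type w} [CommRing Λ]

section Kernel

variable {K F G : Sheaf J (ModuleCat.{w} Λ)} (ι : K ⟶ F) (φ : F ⟶ G) {U : C}
  {M N : Type w} [AddCommGroup M] [Module Λ M] [AddCommGroup N] [Module Λ N]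
  {α : M →ₗ[Λ] Sec F U} {β : N →ₗ[Λ] Sec G U}

theorem LB.kernel (hzero : ι ≫ φ = 0)
    (hι : ∀ V : C, Function.Injective (app ι V))
    (hex : ∀ (V : C) (s : Sec F V), app φ V s = 0 → ∃ k, app ι V k = s)
    (hα : LB J F U α) (hβ : LB J G U β) (ψ : M →ₗ[Λ] N)
    (hψ : ∀ m, app φ U (α m) = β (ψ m)) :
    ∃ κ : LinearMap.ker ψ →ₗ[Λ] Sec K U, LB J K U κ := by
  have hmem : ∀ m : LinearMap.ker ψ, α m.1 ∈ LinearMap.range (app ι U) := by
    intro m
    obtain ⟨k, hk⟩ := hex U (α m.1) (by rw [hψ, m.2, map_zero])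
    exact ⟨k, hk⟩
  let κ : LinearMap.ker ψ →ₗ[Λ] Sec K U :=
    (LinearEquiv.ofInjective (app ι U) (hι U)).symm.toLinearMap.comp
      (LinearMap.codRestrict (LinearMap.range (app ι U)) (α.comp (LinearMap.ker ψ).subtype) hmem)
  have hκ : ∀ m : LinearMap.ker ψ, app ι U (κ m) = α m.1 := by
    intro m
    have := LinearEquiv.apply_symm_apply (LinearEquiv.ofInjective (app ι U) (hι U))
      (LinearMap.codRestrict (LinearMap.range (app ι U)) (α.comp (LinearMap.ker ψ).subtype) hmem m)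
    exact congrArg Subtype.val this
  have hzero' : ∀ (V : C) (k : Sec K V), app φ V (app ι V k) = 0 := by
    intro V k
    rw [← app_comp, hzero, app_zero]
  refine ⟨κ, ?_, ?_⟩
  · intro V g m hm
    have h1 : res F g (α m.1) = 0 := by
      rw [← hκ, ← app_res, hm, map_zero]
    exact (hα.inj g m.1 h1).mono (fun _ _ h0 => Subtype.ext h0)
  · intro V g k
    apply Loc.bind
    refine (hα.surj g (app ι V k)).mono ?_
    rintro W h ⟨m, hm⟩
    have h2 : res G (h ≫ g) (β (ψ m)) = 0 := by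
      rw [← hψ, ← app_res, hm, app_res, hzero', map_zero]
    refine (hβ.inj (h ≫ g) (ψ m) h2).mono ?_
    intro W' h' hm0
    refine ⟨⟨m, hm0⟩, ?_⟩
    apply hι W'
    rw [app_res, hκ, app_res, Category.assoc, res_comp, hm, ← res_comp]

end Kernel

section Cokernel

variable {F G Q : Sheaf J (ModuleCat.{w} Λ)} (φ : F ⟶ G) (π : G ⟶ Q) {U : C}
  {M N : Type w} [AddCommGroup M] [Module Λ M] [AddCommGroup N] [Module Λ N]
  {α : M →ₗ[Λ] Sec F U} {β : N →ₗ[Λ] Sec G U}

theorem LB.cokernel (hzero : φ ≫ π = 0)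
    (hπ : ∀ (V : C) (t : Sec Q V), Loc J V (fun W h => ∃ s : Sec G W, app π W s = res Q h t))
    (hex : ∀ (V : C) (s : Sec G V), app π V s = 0 →
      Loc J V (fun W h => ∃ f : Sec F W, app φ W f = res G h s))
    (hα : LB J F U α) (hβ : LB J G U β) (ψ : M →ₗ[Λ] N)
    (hψ : ∀ m, app φ U (α m) = β (ψ m)) :
    ∃ γ : (N ⧸ LinearMap.range ψ) →ₗ[Λ] Sec Q U, LB J Q U γ := by
  have hzero' : ∀ (V : C) (f : Sec F V), app π V (app φ V f) = 0 := by
    intro V f
    rw [← app_comp, hzero, app_zero]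
  have hle : LinearMap.range ψ ≤ LinearMap.ker ((app π U).comp β) := by
    rintro _ ⟨m, rfl⟩
    rw [LinearMap.mem_ker, LinearMap.comp_apply, ← hψ, hzero']
  let γ : (N ⧸ LinearMap.range ψ) →ₗ[Λ] Sec Q U := (LinearMap.range ψ).liftQ _ hle
  have hγ : ∀ n : N, γ ((LinearMap.range ψ).mkQ n) = app π U (β n) := fun n => rfl
  refine ⟨γ, ?_, ?_⟩
  · intro V g x hx
    obtain ⟨n, rfl⟩ := (LinearMap.range ψ).mkQ_surjective x
    rw [hγ, ← app_res] at hx
    apply Loc.bind
    refine (hex V _ hx).mono ?_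
    rintro W h ⟨f, hf⟩
    apply Loc.bind
    refine (hα.surj (h ≫ g) f).mono ?_
    rintro W' h' ⟨m, hm⟩
    have h3 : res G (h' ≫ h ≫ g) (β (n - ψ m)) = 0 := by
      rw [map_sub, map_sub, ← hψ, ← app_res, hm, app_res, hf, ← res_comp, ← res_comp,
        Category.assoc, sub_self]
    refine (hβ.inj (h' ≫ h ≫ g) (n - ψ m) h3).mono ?_
    intro W'' h'' h0
    have : n = ψ m := sub_eq_zero.1 h0
    rw [this]
    exact (Submodule.Quotient.mk_eq_zero _).2 ⟨m, rfl⟩
  · intro V g t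
    apply Loc.bind
    refine (hπ V t).mono ?_
    rintro W h ⟨s, hs⟩
    refine (hβ.surj (h ≫ g) s).mono ?_
    rintro W' h' ⟨n, hn⟩
    refine ⟨(LinearMap.range ψ).mkQ n, ?_⟩
    rw [hγ, ← app_res, Category.assoc, hn, app_res, hs, ← res_comp]

end Cokernel

end Groth.Agent.Lib.Helper23.LocConst
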