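import Groth.Agent.Lib.Helper23.LocConst.Loc
import Mathlib.CategoryTheory.Sites.Abelian
import Mathlib.CategoryTheory.Sites.EpiMono
import Mathlib.CategoryTheory.Sites.Limits
import Mathlib.Algebra.Category.ModuleCat.Abelian
import Mathlib.Algebra.Category.ModuleCat.Limits
import Mathlib.Algebra.Homology.ShortComplex.ModuleCat
import Mathlib.Algebra.Homology.ShortComplex.Exact

/-!
# Exactness in a category of sheaves of modules, read on sections
-/

namespace Groth.Agent.Lib.Helper23.LocConst

universe w v u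
open CategoryTheory CategoryTheory.Limits Opposite

variable {C : Type u} [Category.{v} C] {J : GrothendieckTopology C}
variable {Λ : Type w} [CommRing Λ]
variable [HasSheafify J (ModuleCat.{w} Λ)]

/-- The sections functor. -/
abbrev secF (J : GrothendieckTopology C) (Λ : Type w) [CommRing Λ] (V : C) :
    Sheaf J (ModuleCat.{w} Λ) ⥤ ModuleCat.{w} Λ :=
  sheafToPresheaf J (ModuleCat.{w} Λ) ⋙ (evaluation Cᵒᵖ (ModuleCat.{w} Λ)).obj (op V)

lemma secF_map {F G : Sheaf J (ModuleCat.{w} Λ)} (φ : F ⟶ G) (V : C) :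
    ((secF J Λ V).map φ).hom = app φ V := rfl

section

variable [PreservesFiniteLimits (sheafToPresheaf J (ModuleCat.{w} Λ))]

lemma sections_injective_of_mono {F G : Sheaf J (ModuleCat.{w} Λ)} (f : F ⟶ G) [Mono f] (V : C) :
    Function.Injective (app f V) := by
  have : Mono ((secF J Λ V).map f) := inferInstance
  exact (ModuleCat.mono_iff_injective _).1 this

lemma sections_exact (S : ShortComplex (Sheaf J (ModuleCat.{w} Λ))) (hS : S.Exact) [Mono S.f]
    (V : C) (s : Sec S.X₂ V) (hs : app S.g V s = 0) : ∃ k : Sec S.X₁ V, app S.f V k = s := by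
  have hex : (S.map (secF J Λ V)).Exact :=
    hS.map_of_mono_of_preservesKernel (secF J Λ V) inferInstance inferInstance
  exact (ShortComplex.moduleCat_exact_iff _).1 hex s hs

end

section

variable [J.HasSheafCompose (forget (ModuleCat.{w} Λ))] [J.WEqualsLocallyBijective (ModuleCat.{w} Λ)]

lemma loc_surjective_of_epi {G Q : Sheaf J (ModuleCat.{w} Λ)} (π : G ⟶ Q) [Epi π] (V : C)
    (t : Sec Q V) : Loc J V (fun W h => ∃ s : Sec G W, app π W s = res Q h t) := by
  have : Sheaf.IsLocallySurjective π := (Sheaf.isLocallySurjective_iff_epi' (φ := π)).2 inferInstance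
  exact ⟨_, Presheaf.imageSieve_mem J π.hom (U := op V) t, fun W h hh => hh⟩

variable [PreservesFiniteLimits (sheafToPresheaf J (ModuleCat.{w} Λ))]

lemma loc_exact (S : ShortComplex (Sheaf J (ModuleCat.{w} Λ))) (hS : S.Exact) (V : C)
    (s : Sec S.X₂ V) (hs : app S.g V s = 0) :
    Loc J V (fun W h => ∃ f : Sec S.X₁ W, app S.f W f = res S.X₂ h s) := by
  obtain ⟨k, hk⟩ := sections_exact (ShortComplex.kernelSequence S.g)
    (ShortComplex.kernelSequence_exact S.g) V s hs
  have : Epi (kernel.lift S.g S.f S.zero) := hS.epi_kernelLift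
  refine (loc_surjective_of_epi (kernel.lift S.g S.f S.zero) V k).mono ?_
  rintro W h ⟨f, hf⟩
  refine ⟨f, ?_⟩
  have h1 : app S.f W f = app (kernel.ι S.g) W (app (kernel.lift S.g S.f S.zero) W f) := by
    rw [← app_comp, kernel.lift_ι]
  rw [h1, hf, app_res]
  exact congrArg _ hk

end

end Groth.Agent.Lib.Helper23.LocConst
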