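import Groth.Prelude.Def_EtMod2
import Groth.Agent.Lib.Helper23.LocConst.Bridge
import Groth.Agent.Lib.Helper23.LocConst.SheafExact
import Groth.Agent.Lib.Helper23.LocConst.LBKer
import Groth.Agent.Lib.Helper23.LocConst.LBExt
import Groth.Agent.Lib.Helper23.EtGlue2

/-!
# Finite type locally constant sheaves of modules on the small etale site, pointwise form
-/

set_option autoImplicit false

namespace Groth.Agent.Lib.Helper23.LocConst

universe u
open CategoryTheory CategoryTheory.Limits AlgebraicGeometry Opposite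

variable (Λ : Type (u + 1)) [CommRing Λ] {X : Scheme.{u}}

/-- `F` is constant with finitely generated value on some etale neighbourhood of `x`. -/
def LCat (F : EtModW.Mod Λ X) (x : X) : Prop :=
  ∃ (T : X.Etale) (t : T.left), T.hom.base t = x ∧ ∃ (M : Type (u + 1)) (_ : AddCommGroup M)
    (_ : Module Λ M) (_ : Module.Finite Λ M) (α : M →ₗ[Λ] Sec F T),
    LB X.smallEtaleTopology F T α

theorem isFTLocConst_iff (F : EtModW.Mod Λ X) :
    EtModW.IsFTLocConst Λ F ↔ ∀ x : X, LCat Λ F x := by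
  constructor
  · rintro ⟨ι, U, hU, hiso⟩ x
    obtain ⟨i, y, hy⟩ := hU x
    obtain ⟨M, _, _, _, ⟨e⟩⟩ := hiso i
    obtain ⟨α, hα⟩ := exists_LB_of_iso F (U i) M e
    exact ⟨U i, y, hy, M, _, _, ‹_›, α, hα⟩
  · intro h
    choose T t ht M i1 i2 i3 α hα using h
    refine ⟨X, T, fun x => ⟨x, t x, ht x⟩, fun x => ?_⟩
    exact ⟨M x, i1 x, i2 x, i3 x, ⟨(isoOfLB (hα x)).symm⟩⟩

set_option backward.isDefEq.respectTransparency.types false in
set_option backward.isDefEq.respectTransparency false in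
/-- Two etale neighbourhoods of a point have a common refinement. -/
lemma exists_common_refinement (A B : X.Etale) (a : A.left) (b : B.left)
    (hab : A.hom.base a = B.hom.base b) :
    ∃ (W : X.Etale) (p₁ : W ⟶ A) (p₂ : W ⟶ B) (w : W.left),
      p₁.left.base w = a ∧ p₂.left.base w = b := by
  haveI : Etale A.hom := A.prop
  haveI : Etale B.hom := B.prop
  haveI : Etale (pullback.fst A.hom B.hom ≫ A.hom) := inferInstance
  let W : X.Etale := Scheme.Etale.mk (pullback.fst A.hom B.hom ≫ A.hom)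
  let p₁ : W ⟶ A := MorphismProperty.Over.homMk (pullback.fst A.hom B.hom) rfl trivial
  let p₂ : W ⟶ B := MorphismProperty.Over.homMk (pullback.snd A.hom B.hom)
    (by
      change pullback.snd A.hom B.hom ≫ B.hom = pullback.fst A.hom B.hom ≫ A.hom
      exact pullback.condition.symm) trivial
  obtain ⟨z, hz1, hz2⟩ := Scheme.Pullback.exists_preimage_pullback (f := A.hom) (g := B.hom) a b hab
  exact ⟨W, p₁, p₂, z, hz1, hz2⟩

set_option backward.isDefEq.respectTransparency.types false in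
set_option backward.isDefEq.respectTransparency false in
lemma hom_base_of_comp {A T : X.Etale} (g : T ⟶ A) (t : T.left) :
    T.hom.base t = A.hom.base (g.left.base t) := by
  have hw : g.left ≫ A.hom = T.hom := Over.w g.hom
  rw [← hw]
  rfl

variable {Λ}

/-- Around a point where `F` and `G` are constant of finite type, a morphism `F ⟶ G` is induced
by a linear map. -/
theorem lcat_hom {F G : EtModW.Mod Λ X} (φ : F ⟶ G) (x : X) (hF : LCat Λ F x)
    (hG : LCat Λ G x) :
    ∃ (T : X.Etale) (t : T.left), T.hom.base t = x ∧ ∃ (M N : Type (u + 1))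
      (_ : AddCommGroup M) (_ : AddCommGroup N) (_ : Module Λ M) (_ : Module Λ N)
      (_ : Module.Finite Λ M) (_ : Module.Finite Λ N)
      (α : M →ₗ[Λ] Sec F T) (β : N →ₗ[Λ] Sec G T) (ψ : M →ₗ[Λ] N),
      LB X.smallEtaleTopology F T α ∧ LB X.smallEtaleTopology G T β ∧
        ∀ m, app φ T (α m) = β (ψ m) := by
  obtain ⟨A, a, ha, M, _, _, _, α, hα⟩ := hF
  obtain ⟨B, b, hb, N, _, _, _, β, hβ⟩ := hG
  obtain ⟨W, p₁, p₂, w, hw1, hw2⟩ := exists_common_refinement A B a b (ha.trans hb.symm)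
  have hα' := hα.restrict p₁
  have hβ' := hβ.restrict p₂
  obtain ⟨S, hS, hSψ⟩ := exists_linearMap φ hα' hβ'
  obtain ⟨T, g, hg, ⟨t, ht⟩⟩ := EtGlue.exists_arrow_of_mem S hS w
  obtain ⟨ψ, hψ⟩ := hSψ g hg
  have htx : T.hom.base t = x := by
    rw [hom_base_of_comp g t, hom_base_of_comp p₁]
    have : g.left.base t = w := ht
    rw [this, hw1, ha]
  exact ⟨T, t, htx, M, N, _, _, _, _, ‹_›, ‹_›, (res F g).comp ((res F p₁).comp α),
    (res G g).comp ((res G p₂).comp β), ψ, hα'.restrict g, hβ'.restrict g, fun m => hψ m⟩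

variable [IsNoetherianRing Λ]

theorem lcat_kernel {F G : EtModW.Mod Λ X} (φ : F ⟶ G) (x : X) (hF : LCat Λ F x)
    (hG : LCat Λ G x) : LCat Λ (kernel φ) x := by
  obtain ⟨T, t, ht, M, N, _, _, _, _, _, _, α, β, ψ, hα, hβ, hψ⟩ := lcat_hom φ x hF hG
  obtain ⟨κ, hκ⟩ := LB.kernel (kernel.ι φ) φ (kernel.condition φ)
    (fun V => sections_injective_of_mono _ V)
    (fun V s hs => sections_exact (ShortComplex.kernelSequence φ)
      (ShortComplex.kernelSequence_exact φ) V s hs) hα hβ ψ hψ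
  exact ⟨T, t, ht, LinearMap.ker ψ, _, _, inferInstance, κ, hκ⟩

theorem lcat_cokernel {F G : EtModW.Mod Λ X} (φ : F ⟶ G) (x : X) (hF : LCat Λ F x)
    (hG : LCat Λ G x) : LCat Λ (cokernel φ) x := by
  obtain ⟨T, t, ht, M, N, _, _, _, _, _, _, α, β, ψ, hα, hβ, hψ⟩ := lcat_hom φ x hF hG
  obtain ⟨γ, hγ⟩ := LB.cokernel φ (cokernel.π φ) (cokernel.condition φ)
    (fun V s => loc_surjective_of_epi _ V s)
    (fun V s hs => loc_exact (ShortComplex.cokernelSequence φ)
      (ShortComplex.cokernelSequence_exact φ) V s hs) hα hβ ψ hψ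
  exact ⟨T, t, ht, N ⧸ LinearMap.range ψ, _, _, inferInstance, γ, hγ⟩

theorem lcat_extension (S : ShortComplex (EtModW.Mod Λ X)) (hS : S.ShortExact) (x : X)
    (h1 : LCat Λ S.X₁ x) (h3 : LCat Λ S.X₃ x) : LCat Λ S.X₂ x := by
  obtain ⟨A, a, ha, M, _, _, _, α, hα⟩ := h1
  obtain ⟨B, b, hb, N, _, _, _, β, hβ⟩ := h3
  obtain ⟨W, p₁, p₂, w, hw1, hw2⟩ := exists_common_refinement A B a b (ha.trans hb.symm)
  have hα' := hα.restrict p₁
  have hβ' := hβ.restrict p₂
  haveI := hS.mono_f
  haveI := hS.epi_g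
  haveI : Module.FinitePresentation Λ N := Module.finitePresentation_of_finite Λ N
  obtain ⟨S', hS', hP⟩ := LB.extension S.f S.g S.zero
    (fun V => sections_injective_of_mono S.f V)
    (fun V e he => sections_exact S hS.exact V e he)
    (fun V t => loc_surjective_of_epi S.g V t) hα' hβ'
  obtain ⟨T, g, hg, ⟨t, ht⟩⟩ := EtGlue.exists_arrow_of_mem S' hS' w
  obtain ⟨P, _, _, _, γ, hγ⟩ := hP g hg
  have htx : T.hom.base t = x := by
    rw [hom_base_of_comp g t, hom_base_of_comp p₁]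
    have : g.left.base t = w := ht
    rw [this, hw1, ha]
  exact ⟨T, t, htx, P, _, _, ‹_›, γ, hγ⟩

end Groth.Agent.Lib.Helper23.LocConst
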