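import Groth.Agent.Lib.Helper23.LocConst.Loc
import Mathlib.Algebra.Module.FinitePresentation
import Mathlib.LinearAlgebra.Isomorphisms
import Mathlib.LinearAlgebra.Quotient.Basic
import Mathlib.RingTheory.Noetherian.Basic

/-!
# Locally bijective comparison maps `M → F(U)` (elementary form of "`F|_U` is constant with value `M`")
-/

namespace Groth.Agent.Lib.Helper23.LocConst

universe w v u
open CategoryTheory Opposite

variable {C : Type u} [Category.{v} C] (J : GrothendieckTopology C)
variable {Λ : Type w} [CommRing Λ]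

/-- `α : M → F(U)` exhibits `F` restricted to `C/U` as the constant sheaf with value `M`:
the induced map from the constant presheaf is locally injective and locally surjective. -/
structure LB (F : Sheaf J (ModuleCat.{w} Λ)) (U : C) {M : Type w} [AddCommGroup M] [Module Λ M]
    (α : M →ₗ[Λ] Sec F U) : Prop where
  inj : ∀ ⦃V : C⦄ (g : V ⟶ U) (m : M), res F g (α m) = 0 → Loc J V (fun _ _ => m = 0)
  surj : ∀ ⦃V : C⦄ (g : V ⟶ U) (s : Sec F V),
    Loc J V (fun W h => ∃ m : M, res F (h ≫ g) (α m) = res F h s)

variable {J}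

lemma LB.restrict {F : Sheaf J (ModuleCat.{w} Λ)} {U : C} {M : Type w} [AddCommGroup M]
    [Module Λ M] {α : M →ₗ[Λ] Sec F U} (hα : LB J F U α) {U' : C} (k : U' ⟶ U) :
    LB J F U' ((res F k).comp α) where
  inj V g m hm := by
    refine hα.inj (g ≫ k) m ?_
    rw [res_comp]; exact hm
  surj V g s := by
    refine (hα.surj (g ≫ k) s).mono ?_
    rintro W h ⟨m, hm⟩
    refine ⟨m, ?_⟩
    rw [LinearMap.comp_apply, ← res_comp, Category.assoc]; exact hm

section Hom

variable {F G : Sheaf J (ModuleCat.{w} Λ)} (φ : F ⟶ G) {U : C}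
  {M N : Type w} [AddCommGroup M] [Module Λ M] [AddCommGroup N] [Module Λ N]
  {α : M →ₗ[Λ] Sec F U} {β : N →ₗ[Λ] Sec G U}

/-- A morphism between "constant on `U`" sheaves is locally induced by a linear map,
provided the source value is finitely generated. -/
theorem exists_linearMap [Module.Finite Λ M] (hα : LB J F U α) (hβ : LB J G U β) :
    Loc J U (fun W h => ∃ ψ : M →ₗ[Λ] N,
      ∀ m, app φ W (res F h (α m)) = res G h (β (ψ m))) := by
  classical
  obtain ⟨k, s, hs⟩ := Module.Finite.exists_fin (R := Λ) (M := M)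
  -- the surjection `Λ^k → M`
  let π : (Fin k → Λ) →ₗ[Λ] M := Fintype.linearCombination Λ s
  have hπ : Function.Surjective π := by
    rw [← LinearMap.range_eq_top, Fintype.range_linearCombination, hs]
  have h1 : Loc J U (fun W h => ∀ i : Fin k, ∃ n : N,
      res G (h ≫ 𝟙 U) (β n) = res G h (app φ U (α (s i)))) :=
    Loc.forall_fin (fun i => hβ.surj (𝟙 U) (app φ U (α (s i))))
  apply Loc.bind
  refine h1.mono ?_
  intro W h hn
  choose n hn using hn
  simp only [Category.comp_id] at hn
  let ν : (Fin k → Λ) →ₗ[Λ] N := Fintype.linearCombination Λ n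
  -- key identity
  have key : ∀ c : Fin k → Λ, res G h (β (ν c)) = app φ W (res F h (α (π c))) := by
    intro c
    simp only [ν, π, Fintype.linearCombination_apply, map_sum, map_smul]
    refine Finset.sum_congr rfl (fun i _ => ?_)
    rw [hn i, app_res]
  by_cases hrel : ∀ c : Fin k → Λ, π c = 0 → ν c = 0
  · -- the relations hold: define `ψ`
    have hle : LinearMap.ker π ≤ LinearMap.ker ν := fun c hc => hrel c hc
    let ψ : M →ₗ[Λ] N :=
      ((LinearMap.ker π).liftQ ν hle).comp (LinearMap.quotKerEquivOfSurjective π hπ).symm.toLinearMap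
    have hψ : ∀ c, ψ (π c) = ν c := by
      intro c
      have : (LinearMap.quotKerEquivOfSurjective π hπ).symm (π c) = (LinearMap.ker π).mkQ c := by
        rw [LinearEquiv.symm_apply_eq]
        rfl
      simp only [ψ, LinearMap.comp_apply, LinearEquiv.coe_coe, this]
      rfl
    refine Loc.of_forall (fun W' h' => ⟨ψ, fun m => ?_⟩)
    obtain ⟨c, rfl⟩ := hπ m
    rw [hψ, res_comp, res_comp, app_res, ← key]
  · -- some relation fails: then `W` is covered by the empty sieve
    push_neg at hrel
    obtain ⟨c, hc, hνc⟩ := hrel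
    have h0 : res G h (β (ν c)) = 0 := by rw [key, hc, map_zero, map_zero, map_zero]
    exact Loc.of_false ((hβ.inj h (ν c) h0).mono (fun _ _ hz => hνc hz))

end Hom

end Groth.Agent.Lib.Helper23.LocConst
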