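import Mathlib.CategoryTheory.Sites.Sheaf
import Mathlib.CategoryTheory.Sites.LocallyBijective
import Mathlib.Algebra.Category.ModuleCat.Basic

/-!
# A calculus of "locally" on a site, and sections of sheaves of modules
-/

namespace Groth.Agent.Lib.Helper23.LocConst

universe w v u
open CategoryTheory Opposite

variable {C : Type u} [Category.{v} C] (J : GrothendieckTopology C)

/-- `P` holds on the members of some covering sieve of `V`. -/
def Loc (V : C) (P : ∀ ⦃W : C⦄, (W ⟶ V) → Prop) : Prop :=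
  ∃ S ∈ J V, ∀ ⦃W : C⦄ (h : W ⟶ V), S.arrows h → P h

namespace Loc

variable {J} {V : C} {P Q : ∀ ⦃W : C⦄, (W ⟶ V) → Prop}

lemma of_forall (h : ∀ ⦃W : C⦄ (g : W ⟶ V), P g) : Loc J V P :=
  ⟨⊤, J.top_mem V, fun _ g _ => h g⟩

lemma mono (hP : Loc J V P) (h : ∀ ⦃W : C⦄ (g : W ⟶ V), P g → Q g) : Loc J V Q := by
  obtain ⟨S, hS, hSP⟩ := hP
  exact ⟨S, hS, fun W g hg => h g (hSP g hg)⟩

lemma and (hP : Loc J V P) (hQ : Loc J V Q) : Loc J V (fun _ g => P g ∧ Q g) := by
  obtain ⟨S, hS, hSP⟩ := hP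
  obtain ⟨T, hT, hTQ⟩ := hQ
  exact ⟨S ⊓ T, J.intersection_covering hS hT, fun W g hg => ⟨hSP g hg.1, hTQ g hg.2⟩⟩

lemma pullback (hP : Loc J V P) {V' : C} (g : V' ⟶ V) :
    Loc J V' (fun _ h => P (h ≫ g)) := by
  obtain ⟨S, hS, hSP⟩ := hP
  exact ⟨S.pullback g, J.pullback_stable g hS, fun W h hh => hSP _ hh⟩

lemma bind (h : Loc J V (fun W g => Loc J W (fun _ g' => P (g' ≫ g)))) : Loc J V P := by
  classical
  obtain ⟨S, hS, hSP⟩ := h
  choose R hR hRP using hSP
  refine ⟨Sieve.bind S.arrows (fun W g hg => R g hg), J.bind_covering hS (fun W g hg => hR g hg), ?_⟩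
  rintro W h ⟨Y, a, b, hb, ha, rfl⟩
  exact hRP b hb a ha

lemma forall_finset {ι : Type*} (s : Finset ι) {P : ι → ∀ ⦃W : C⦄, (W ⟶ V) → Prop}
    (h : ∀ i ∈ s, Loc J V (P i)) : Loc J V (fun _ g => ∀ i ∈ s, P i g) := by
  classical
  induction s using Finset.induction_on with
  | empty => exact of_forall (fun W g i hi => by simp at hi)
  | insert a s ha ih =>
    have h1 := h a (Finset.mem_insert_self a s)
    have h2 := ih (fun i hi => h i (Finset.mem_insert_of_mem hi))
    refine (h1.and h2).mono ?_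
    rintro W g ⟨hg1, hg2⟩ i hi
    rcases Finset.mem_insert.1 hi with rfl | hi
    · exact hg1
    · exact hg2 i hi

lemma forall_fin {ι : Type*} [Finite ι] {P : ι → ∀ ⦃W : C⦄, (W ⟶ V) → Prop}
    (h : ∀ i, Loc J V (P i)) : Loc J V (fun _ g => ∀ i, P i g) := by
  classical
  haveI := Fintype.ofFinite ι
  exact (forall_finset Finset.univ (fun i _ => h i)).mono (fun W g hg i => hg i (Finset.mem_univ i))

lemma of_false (h : Loc J V (fun _ _ => False)) : Loc J V P := h.mono (fun _ _ hf => hf.elim)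

end Loc

section Sections

variable {J} {Λ : Type w} [CommRing Λ]

/-- Sections of a sheaf of modules over `V`. -/
abbrev Sec (F : Sheaf J (ModuleCat.{w} Λ)) (V : C) : Type w := F.obj.obj (op V)

/-- Restriction of sections, as a linear map. -/
def res (F : Sheaf J (ModuleCat.{w} Λ)) {V U : C} (g : V ⟶ U) : Sec F U →ₗ[Λ] Sec F V :=
  (F.obj.map g.op).hom

/-- A morphism of sheaves on sections, as a linear map. -/
def app {F G : Sheaf J (ModuleCat.{w} Λ)} (φ : F ⟶ G) (V : C) : Sec F V →ₗ[Λ] Sec G V :=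
  (φ.hom.app (op V)).hom

@[simp] lemma res_id (F : Sheaf J (ModuleCat.{w} Λ)) (U : C) (s : Sec F U) :
    res F (𝟙 U) s = s := by
  simp [res]

lemma res_comp (F : Sheaf J (ModuleCat.{w} Λ)) {W V U : C} (h : W ⟶ V) (g : V ⟶ U) (s : Sec F U) :
    res F (h ≫ g) s = res F h (res F g s) := by
  simp [res]

lemma app_res {F G : Sheaf J (ModuleCat.{w} Λ)} (φ : F ⟶ G) {V U : C} (g : V ⟶ U) (s : Sec F U) :
    app φ V (res F g s) = res G g (app φ U s) := by
  have := congrArg (fun k => k.hom s) (φ.hom.naturality g.op)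
  simpa [app, res] using this

lemma app_comp {F G H : Sheaf J (ModuleCat.{w} Λ)} (φ : F ⟶ G) (ψ : G ⟶ H) (V : C) (s : Sec F V) :
    app (φ ≫ ψ) V s = app ψ V (app φ V s) := by
  simp [app]

lemma app_zero {F G : Sheaf J (ModuleCat.{w} Λ)} (V : C) (s : Sec F V) :
    app (0 : F ⟶ G) V s = 0 := by
  simp [app]

variable [J.HasSheafCompose (forget (ModuleCat.{w} Λ))]

/-- A section which is locally zero is zero. -/
lemma eq_zero_of_loc (F : Sheaf J (ModuleCat.{w} Λ)) {V : C} (s : Sec F V)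
    (h : Loc J V (fun _ g => res F g s = 0)) : s = 0 := by
  obtain ⟨S, hS, hs⟩ := h
  have hsh := (isSheaf_iff_isSheaf_of_type J _).1
    ((sheafCompose J (forget (ModuleCat.{w} Λ))).obj F).2
  refine (hsh.isSeparated _ hS).ext (fun Y f hf => ?_)
  have h1 := hs f hf
  change res F f s = res F f 0
  rw [h1, map_zero]

lemma eq_of_loc (F : Sheaf J (ModuleCat.{w} Λ)) {V : C} (s t : Sec F V)
    (h : Loc J V (fun _ g => res F g s = res F g t)) : s = t := by
  rw [← sub_eq_zero]
  apply eq_zero_of_loc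
  exact h.mono (fun W g hg => by rw [map_sub, hg, sub_self])

end Sections

end Groth.Agent.Lib.Helper23.LocConst
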