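import Groth.Agent.Lib.Helper23.LocConst.Bridge
import Mathlib.CategoryTheory.Sites.Monoidal
import Mathlib.Algebra.Category.ModuleCat.Monoidal.Closed
import Mathlib.CategoryTheory.Monoidal.FunctorCategory

/-!
# Tensor products of locally constant sheaves of modules
-/

namespace Groth.Agent.Lib.Helper23.LocConst

universe w v u
open CategoryTheory Opposite MonoidalCategory TensorProduct

variable {C : Type u} [Category.{v} C] {J : GrothendieckTopology C}
variable {Λ : Type w} [CommRing Λ]

section Restrict

variable {P Q : Cᵒᵖ ⥤ ModuleCat.{w} Λ} (η : P ⟶ Q) (T : C)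

lemma isLocallyInjective_whiskerLeft_forget [Presheaf.IsLocallyInjective J η] :
    Presheaf.IsLocallyInjective (J.over T) (Functor.whiskerLeft (Over.forget T).op η) where
  equalizerSieve_mem {Y} x y h := by
    have hS := Presheaf.equalizerSieve_mem J η (X := op Y.unop.left) x y h
    refine (J.over T).superset_covering ?_ (J.overEquiv_symm_mem_over Y.unop _ hS)
    intro Z f hf
    exact hf

lemma isLocallySurjective_whiskerLeft_forget [Presheaf.IsLocallySurjective J η] :
    Presheaf.IsLocallySurjective (J.over T) (Functor.whiskerLeft (Over.forget T).op η) where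
  imageSieve_mem {Y} s := by
    have hS := Presheaf.imageSieve_mem J η (U := op Y.left) s
    refine (J.over T).superset_covering ?_ (J.overEquiv_symm_mem_over Y _ hS)
    intro Z f hf
    exact hf

end Restrict

section Tensor

variable (F G : Sheaf J (ModuleCat.{w} Λ)) (T : C)
  {M N : Type w} [AddCommGroup M] [Module Λ M] [AddCommGroup N] [Module Λ N]
  (α : M →ₗ[Λ] Sec F T) (β : N →ₗ[Λ] Sec G T)
variable [HasWeakSheafify J (ModuleCat.{w} Λ)]

/-- The tensor product sheaf: sheafification of the pointwise tensor product. -/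
noncomputable abbrev tensorSheaf : Sheaf J (ModuleCat.{w} Λ) :=
  (presheafToSheaf J (ModuleCat.{w} Λ)).obj (F.obj ⊗ G.obj)

/-- The comparison map `M ⊗ N → (F ⊗ G)(T)`. -/
noncomputable def tensorMap : (M ⊗[Λ] N) →ₗ[Λ] Sec (tensorSheaf F G) T :=
  ((toSheafify J (F.obj ⊗ G.obj)).app (op T)).hom ∘ₗ (TensorProduct.map α β)

end Tensor

section Main

variable {F G : Sheaf J (ModuleCat.{w} Λ)} {T : C}
  {M N : Type w} [AddCommGroup M] [Module Λ M] [AddCommGroup N] [Module Λ N]
  {α : M →ₗ[Λ] Sec F T} {β : N →ₗ[Λ] Sec G T}
variable [HasWeakSheafify J (ModuleCat.{w} Λ)]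

variable (T M N) in
/-- The constant presheaf on a tensor product is the tensor product of the constant presheaves. -/
def tensA : (Functor.const (Over T)ᵒᵖ).obj (ModuleCat.of Λ (M ⊗[Λ] N)) ⟶
    (Functor.const (Over T)ᵒᵖ).obj (ModuleCat.of Λ M) ⊗
      (Functor.const (Over T)ᵒᵖ).obj (ModuleCat.of Λ N) where
  app _ := 𝟙 _
  naturality _ _ _ := by
    simp only [Functor.const_obj_obj, Functor.const_obj_map, Category.id_comp]
    exact (id_tensorHom_id (ModuleCat.of Λ M) (ModuleCat.of Λ N)).symm

variable (F G T) in
/-- The restriction of the sheafification map to `C/T`. -/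
noncomputable def tensC : (F.over T).obj ⊗ (G.over T).obj ⟶ ((tensorSheaf F G).over T).obj :=
  Functor.whiskerLeft (Over.forget T).op (toSheafify J (F.obj ⊗ G.obj))

lemma constMap_tensor_eq :
    constMap (tensorSheaf F G) T (tensorMap F G T α β) =
      tensA T M N ≫ (constMap F T α ⊗ₘ constMap G T β) ≫ tensC F G T := by
  ext Y : 2
  apply ModuleCat.hom_ext
  apply TensorProduct.ext'
  intro m n
  have hnat := congrArg (fun k => k.hom ((α m) ⊗ₜ[Λ] (β n)))
    ((toSheafify J (F.obj ⊗ G.obj)).naturality Y.unop.hom.op)
  exact hnat.symm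

end Main

section LBTensor

variable {F G : Sheaf J (ModuleCat.{w} Λ)} {T : C}
  {M N : Type w} [AddCommGroup M] [Module Λ M] [AddCommGroup N] [Module Λ N]
  {α : M →ₗ[Λ] Sec F T} {β : N →ₗ[Λ] Sec G T}
variable [HasWeakSheafify J (ModuleCat.{w} Λ)] [J.WEqualsLocallyBijective (ModuleCat.{w} Λ)]
  [HasWeakSheafify (J.over T) (ModuleCat.{w} Λ)]
  [(J.over T).WEqualsLocallyBijective (ModuleCat.{w} Λ)]
  [((J.over T).W (A := ModuleCat.{w} Λ)).IsMonoidal]

/-- The tensor product of two sheaves which are constant on `T` is constant on `T`,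
with value the tensor product of the values. -/
theorem LB.tensor (hα : LB J F T α) (hβ : LB J G T β) :
    LB J (tensorSheaf F G) T (tensorMap F G T α β) := by
  have h1 : (J.over T).W (constMap F T α) := by
    have := isLocallyInjective_constMap hα
    have := isLocallySurjective_constMap hα
    exact (J.over T).W_of_isLocallyBijective _
  have h2 : (J.over T).W (constMap G T β) := by
    have := isLocallyInjective_constMap hβ
    have := isLocallySurjective_constMap hβ
    exact (J.over T).W_of_isLocallyBijective _
  have hb : (J.over T).W (constMap F T α ⊗ₘ constMap G T β) :=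
    MorphismProperty.tensorHom_mem (J.over T).W _ _ h1 h2
  have hc : (J.over T).W (tensC F G T) := by
    have hi : Presheaf.IsLocallyInjective (J.over T) (tensC F G T) :=
      isLocallyInjective_whiskerLeft_forget (J := J) (toSheafify J (F.obj ⊗ G.obj)) T
    have hs : Presheaf.IsLocallySurjective (J.over T) (tensC F G T) :=
      isLocallySurjective_whiskerLeft_forget (J := J) (toSheafify J (F.obj ⊗ G.obj)) T
    exact (J.over T).W_of_isLocallyBijective (tensC F G T)
  have ha : (J.over T).W (tensA (Λ := Λ) T M N) := by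
    have hiso : IsIso (tensA (Λ := Λ) T M N) := by
      rw [NatTrans.isIso_iff_isIso_app]
      intro Y
      exact inferInstanceAs (IsIso (𝟙 _))
    exact MorphismProperty.of_isIso _ _
  have hW : (J.over T).W (constMap (tensorSheaf F G) T (tensorMap F G T α β)) := by
    rw [constMap_tensor_eq]
    exact MorphismProperty.comp_mem _ _ _ ha (MorphismProperty.comp_mem _ _ _ hb hc)
  exact LB.of_isLocallyBijective hW.isLocallyInjective hW.isLocallySurjective

end LBTensor

end Groth.Agent.Lib.Helper23.LocConst
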